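import Groth.Agent.CubeLib.ConnConst
import Groth.Agent.SchDesc.QAffAlg
import Mathlib.AlgebraicGeometry.AlgClosed.Basic

/-!
# Global functions of proper geometrically connected and geometrically reduced schemes over a field
-/

set_option autoImplicit false
set_option linter.style.haveILetI false

universe u

open CategoryTheory CategoryTheory.Limits AlgebraicGeometry TensorProduct

noncomputable section

namespace Groth.Agent.PicTrivLib

theorem bijective_appTop_of_geom {k : Type u} [Field k] {X : Scheme.{u}} (g : X ⟶ Spec (CommRingCat.of k))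
    [IsProper g] [GeometricallyConnected g] [GeometricallyReduced g] :
    Function.Bijective ((Scheme.ΓSpecIso (CommRingCat.of k)).inv ≫ g.appTop).hom := by
  let K := AlgebraicClosure k
  let j : Spec (CommRingCat.of K) ⟶ Spec (CommRingCat.of k) := Spec.map (CommRingCat.ofHom (algebraMap k K))
  haveI : Flat j := Flat.SpecMap_iff.2 (RingHom.flat_algebraMap_iff.2 inferInstance)
  let g' := pullback.snd g j
  haveI : IsProper g' := inferInstance
  haveI : IsReduced (pullback g j) := GeometricallyReduced.geometrically_isReduced _ _ _ (.of_hasPullback g j)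
  haveI : ConnectedSpace ↥(pullback g j) :=
    GeometricallyConnected.geometrically_connectedSpace (f := g) _ _ _ (.of_hasPullback g j)
  haveI : JacobsonSpace ↥(pullback g j) := LocallyOfFiniteType.jacobsonSpace g'
  haveI : LocallyOfFiniteType g' := inferInstance
  obtain ⟨z, -, hz⟩ := nonempty_inter_closedPoints (Set.univ_nonempty (α := ↥(pullback g j))) isClosed_univ.isLocallyClosed
  have hK := CubeLib.isConst_of_connected g' (pointOfClosedPoint g' z hz) (pointOfClosedPoint_comp g' z hz)
  haveI : CompactSpace X := QuasiCompact.compactSpace_of_compactSpace g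
  haveI : QuasiSeparatedSpace X := quasiSeparatedSpace_of_quasiSeparated g
  have hpo := (SchDesc.isPushout_appTop (IsPullback.of_hasPullback g j)).flip
  let φ : k →+* Γ(X, ⊤) := ((Scheme.ΓSpecIso (CommRingCat.of k)).inv ≫ g.appTop).hom
  letI : Algebra k Γ(X, ⊤) := φ.toAlgebra
  obtain ⟨e, he1, he2⟩ := SchDesc.exists_iso_tensor (R := k) (A := K) (A' := Γ(X, ⊤))
    (i := ((Scheme.ΓSpecIso (CommRingCat.of K)).inv ≫ g'.appTop).hom) (i' := (pullback.fst g j).appTop.hom)
    (hpo.of_iso (Scheme.ΓSpecIso (CommRingCat.of k)) (Scheme.ΓSpecIso (CommRingCat.of K)) (Iso.refl _) (Iso.refl _)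
      (Scheme.ΓSpecIso_naturality (CommRingCat.ofHom (algebraMap k K)))
      (by show g.appTop ≫ 𝟙 _ = (Scheme.ΓSpecIso (CommRingCat.of k)).hom ≫ (Scheme.ΓSpecIso (CommRingCat.of k)).inv ≫ g.appTop
          rw [Category.comp_id, Iso.hom_inv_id_assoc])
      (by show g'.appTop ≫ 𝟙 _ = (Scheme.ΓSpecIso (CommRingCat.of K)).hom ≫ (Scheme.ΓSpecIso (CommRingCat.of K)).inv ≫ g'.appTop
          rw [Category.comp_id, Iso.hom_inv_id_assoc])
      (by show (pullback.fst g j).appTop ≫ 𝟙 _ = 𝟙 _ ≫ (pullback.fst g j).appTop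
          rw [Category.comp_id, Category.id_comp]))
  haveI : Nonempty (⊤ : (pullback g j).Opens).toScheme := ⟨⟨z, trivial⟩⟩
  haveI : Nontrivial Γ(pullback g j, ⊤) := Scheme.component_nontrivial _ _
  haveI : Nontrivial Γ(X, ⊤) := (pullback.fst g j).appTop.hom.domain_nontrivial
  refine ⟨φ.injective, ?_⟩
  refine (Module.FaithfullyFlat.lTensor_surjective_iff_surjective k K (Algebra.linearMap k Γ(X, ⊤))).1 fun w => ?_
  obtain ⟨r, hr⟩ := hK (e w)
  refine ⟨r ⊗ₜ 1, e.injective ?_⟩
  show e (r ⊗ₜ algebraMap k Γ(X, ⊤) 1) = e w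
  rw [map_one, he1, ← hr]
  show g'.appTop.hom ((Scheme.ΓSpecIso (CommRingCat.of K)).inv.hom r) = (BCLib.secHom g' ⊤).hom r
  rw [BCLib.secHom_eq_appLE]
  refine Eq.trans ?_ (congrArg (fun q => ((Scheme.ΓSpecIso (CommRingCat.of K)).inv ≫ q).hom r) (Scheme.Hom.app_eq_appLE g' (U := ⊤)))
  rfl

theorem bijective_fiber {X Y : Scheme.{u}} (f : X ⟶ Y) [IsProper f] [GeometricallyConnected f] [GeometricallyReduced f]
    (y : Y) : Function.Bijective (algebraMap (Y.residueField y) Γ(f.fiber y, ⊤)) := by
  haveI : IsProper (f.fiberToSpecResidueField y) :=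
    MorphismProperty.of_isPullback (P := @IsProper) (IsPullback.of_hasPullback f (Y.fromSpecResidueField y)) inferInstance
  exact bijective_appTop_of_geom (k := Y.residueField y) (f.fiberToSpecResidueField y)

end Groth.Agent.PicTrivLib
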