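import Groth.Agent.PicTrivLib.Push
import Groth.Agent.CubeLib.SeesawPoint
import Groth.Agent.PicLib.Group
import Groth.Agent.CubeLib.Artin
import Groth.Agent.BCLib.TrivNhd
import Groth.Agent.BCLib.SteinNbhd
import Groth.Agent.AmpleEmb.Misc
import Groth.Agent.MonoFibre.RigidityProper

/-!
# Fibre lemmas for the direct image of fibrewise trivial modules
-/

set_option autoImplicit false
set_option backward.isDefEq.respectTransparency false
set_option backward.defeqAttrib.useBackward true
set_option linter.style.haveILetI false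

universe u

open CategoryTheory CategoryTheory.Limits MonoidalCategory CartesianMonoidalCategory AlgebraicGeometry TopologicalSpace Opposite
open Groth.Agent.CohBase Groth.Agent.ProjCoh Groth.Agent.FormalLib Groth.Agent.PullbackMod Groth.Agent.ParaFLib
  Groth.Agent.AmpleLib

noncomputable section

open Groth.Agent.CubeLib

namespace Groth.Agent.PicTrivLib

variable {X Y : Scheme.{u}} (f : X ⟶ Y) [IsProper f]

theorem isClosed_fiberRank_gt [Flat f] [IsLocallyNoetherian Y] {F : X.Modules} (hF : PicF.IsInvertible F) :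
    ∀ n : ℕ, IsClosed {y : Y | n < CohIII.fiberRank f F 0 y} := by
  haveI := Groth.Agent.InvExt.isQCoh_of_isInvertible hF
  intro n
  rw [← isOpen_compl_iff, isOpen_iff_mem_nhds]
  intro y hy
  replace hy : CohIII.fiberRank f F 0 y < n + 1 := by
    simp only [Set.mem_compl_iff, Set.mem_setOf_eq, not_lt] at hy
    omega
  obtain ⟨_, ⟨W : Y.Opens, (hW : IsAffineOpen W), rfl⟩, hyW, -⟩ :=
    Y.isBasis_affineOpens.exists_subset_of_mem_open (Set.mem_univ y) isOpen_univ
  obtain ⟨q, rfl⟩ : ∃ q, hW.fromSpec q = y := ⟨_, hW.fromSpec_primeIdealOf ⟨y, hyW⟩⟩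
  letI : (f ⁻¹ᵁ W : Scheme.{u}).Over (Spec (CommRingCat.of Γ(Y, W))) := ⟨BCLib.restOver f hW⟩
  haveI : IsNoetherianRing Γ(Y, W) := IsLocallyNoetherian.component_noetherian ⟨W, hW⟩
  haveI hpr : IsProper (BCLib.restOver f hW) := BCLib.isProper_restOver f hW
  haveI : IsProper (str Γ(Y, W) (f ⁻¹ᵁ W : Scheme.{u})) := hpr
  haveI hfl : Flat (BCLib.restOver f hW) := MorphismProperty.of_isPullback (BCLib.isPullback_restOver f hW) inferInstance
  haveI : Flat (str Γ(Y, W) (f ⁻¹ᵁ W : Scheme.{u})) := hfl
  haveI : IsLocallyNoetherian (f ⁻¹ᵁ W : Scheme.{u}) := LocallyOfFiniteType.isLocallyNoetherian (BCLib.restOver f hW)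
  have hFW := AmpleLib.isInvertible_pullback (f ⁻¹ᵁ W).ι hF
  haveI : Coh.IsQCoh (BCLib.restMod f F) := Groth.Agent.InvExt.isQCoh_of_isInvertible hFW
  obtain ⟨ι, hι, V, hcov, haff, L, ψ, hfin, hflat, -, -, hψ⟩ := BCLib.exists_cover_bij (A := Γ(Y, W))
    (F := BCLib.restMod f F) (CurveLib.isCoh_of_isInvertible hFW)
    (TildePerf.isFlatOver_of_isFinLocFree _ (CurveLib.isFinLocFree_of_isInvertible hFW))
  have hk : ∀ z : Spec Γ(Y, W), CohIII.fiberRank f F 0 (hW.fromSpec z) =
      FlatCx.kdim (L.δ 0) z.asIdeal.ResidueField := fun z =>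
    (BCLib.fiberRank_restOver f hW F 0 z).symm.trans
      (BCLib.fiberRank_eq_kdim_aux (R := Γ(Y, W)) V (BCLib.restMod f F) hcov haff ψ hψ hfin 0 z).1
  rw [hk] at hy
  obtain ⟨O, hO, hOo, hqO⟩ := _root_.mem_nhds_iff.1 (L.kdim_δ_upperSemicontinuous hfin hflat 0 q (n + 1) hy)
  refine Filter.mem_of_superset ((hW.fromSpec.isOpenEmbedding.isOpenMap _ hOo).mem_nhds ⟨q, hqO, rfl⟩) ?_
  rintro _ ⟨z, hz, rfl⟩
  show ¬ n < CohIII.fiberRank f F 0 (hW.fromSpec z)
  rw [hk]
  have : FlatCx.kdim (L.δ 0) z.asIdeal.ResidueField < n + 1 := hO hz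
  omega

theorem bijective_of_finrank_eq_one {K A : Type u} [Field K] [CommRing A] [Algebra K A]
    (h : Module.finrank K A = 1) : Function.Bijective (algebraMap K A) := by
  haveI : Module.Finite K A := Module.finite_of_finrank_eq_succ h
  haveI : Nontrivial A := Module.nontrivial_of_finrank_eq_succ h
  refine ⟨(algebraMap K A).injective, fun a => ?_⟩
  obtain ⟨c, hc⟩ := (finrank_eq_one_iff_of_nonzero' (1 : A) one_ne_zero).1 h a
  exact ⟨c, by rwa [Algebra.algebraMap_eq_smul_one]⟩

omit [IsProper f] in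
theorem triv_fiber_pullback {M : Y.Modules} (hM : PicF.IsInvertible M) (y : Y) :
    Triv ((Scheme.Modules.pullback (f.fiberι y)).obj ((Scheme.Modules.pullback f).obj M)) := by
  have w : f.fiberToSpecResidueField y ≫ Y.fromSpecResidueField y = f.fiberι y ≫ f := pullback.condition.symm
  rw [triv_pullback_comp_iff (f.fiberι y) f rfl, ← triv_pullback_comp_iff (f.fiberToSpecResidueField y) (Y.fromSpecResidueField y) w]
  refine Triv.pullback _ (isInvertible_pullback _ hM) ?_
  have h1 := PicLib.eq_one_of_local (R := Y.residueField y) (PicLib.cls (isInvertible_pullback (Y.fromSpecResidueField y) hM))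
  exact triv_iff.2 ((PicLib.cls_eq_one _).1 h1)

theorem bijective_fiber_rat {k : Type u} [Field k] [IsAlgClosed k] (g : Y ⟶ Spec (CommRingCat.of k))
    [LocallyOfFiniteType g] (y : Y) (hy : IsClosed {y}) [IsIntegral (f.fiber y)] :
    Function.Bijective (algebraMap (Y.residueField y) Γ(f.fiber y, ⊤)) := by
  haveI : IsAlgClosed (Y.residueField y) :=
    IsAlgClosed.of_ringEquiv k (Y.residueField y) (residueFieldIsoBase g y hy).commRingCatIsoToRingEquiv.symm
  let g' := f.fiberToSpecResidueField y
  haveI : IsProper g' :=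
    MorphismProperty.of_isPullback (P := @IsProper) (IsPullback.of_hasPullback f (Y.fromSpecResidueField y)) inferInstance
  haveI : JacobsonSpace ↥(f.fiber y) := inferInstance
  obtain ⟨z, -, hz⟩ := nonempty_inter_closedPoints (Set.univ_nonempty (α := ↥(f.fiber y))) isClosed_univ.isLocallyClosed
  let s : 𝟙_ (Over (Spec (CommRingCat.of (Y.residueField y)))) ⟶ Over.mk g' :=
    Over.homMk (pointOfClosedPoint (K := Y.residueField y) g' z hz) (pointOfClosedPoint_comp _ _ _)
  haveI : IsIntegral (Over.mk g').left := ‹IsIntegral (f.fiber y)›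
  haveI : UniversallyClosed (Over.mk g').hom := inferInstanceAs (UniversallyClosed g')
  exact MonoFibre.Rigidity.bijective_of_ratPt s

theorem bijective_fiber_of_jacobson [Flat f] {k : Type u} [Field k] [IsAlgClosed k] (g : Y ⟶ Spec (CommRingCat.of k))
    [LocallyOfFiniteType g] (hint : ∀ y : Y, IsIntegral (f.fiber y)) (y : Y) :
    Function.Bijective (algebraMap (Y.residueField y) Γ(f.fiber y, ⊤)) := by
  haveI : IsLocallyNoetherian Y := LocallyOfFiniteType.isLocallyNoetherian g
  haveI : JacobsonSpace Y := LocallyOfFiniteType.jacobsonSpace g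
  have hle : CohIII.fiberRank f (Coh.structureModule X) 0 y ≤ 1 := by
    by_contra hgt
    push Not at hgt
    obtain ⟨z, hz, hzc⟩ := nonempty_inter_closedPoints (Z := {y : Y | 1 < CohIII.fiberRank f (Coh.structureModule X) 0 y})
      ⟨y, hgt⟩ (isClosed_fiberRank_gt f isInvertible_structureModule 1).isLocallyClosed
    haveI := hint z
    have := BCLib.finrank_fiberH_zero f z (bijective_fiber_rat f g z hzc)
    simp only [Set.mem_setOf_eq] at hz
    omega
  haveI := hint y
  haveI := universallyClosed_fiber f y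
  haveI : LocallyOfFiniteType (f.fiberToSpecResidueField y) :=
    MorphismProperty.of_isPullback (P := @LocallyOfFiniteType) (IsPullback.of_hasPullback f (Y.fromSpecResidueField y)) inferInstance
  letI : (f.fiber y).Over (Spec (CommRingCat.of (Y.residueField y))) := ⟨f.fiberToSpecResidueField y⟩
  let e : (CohIII.globalSectionsA (Y.residueField y)).obj (Coh.structureModule (f.fiber y)) ≃ₗ[Y.residueField y]
      Coh.HH (f.fiber y) ((Scheme.Modules.pullback (f.fiberι y)).obj (Coh.structureModule X)) 0 :=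
    BCLib.gammaH0 (Coh.structureModule (f.fiber y)) ≪≫ₗ (BCLib.hhEquivL (ProjCoh.pullUnit (f.fiberι y)) 0).symm
  let e' : Γ(f.fiber y, ⊤) ≃ₗ[Y.residueField y] (CohIII.globalSectionsA (Y.residueField y)).obj (Coh.structureModule (f.fiber y)) :=
    { toFun := fun a => a, invFun := fun a => a, left_inv := fun _ => rfl, right_inv := fun _ => rfl,
      map_add' := fun _ _ => rfl, map_smul' := fun c a => Algebra.smul_def c a }
  have hr : Module.finrank (Y.residueField y) Γ(f.fiber y, ⊤) = CohIII.fiberRank f (Coh.structureModule X) 0 y :=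
    (e'.trans e).finrank_eq
  haveI : Module.Finite (Y.residueField y) Γ(f.fiber y, ⊤) :=
    RingHom.Finite.comp (finite_appTop_of_universallyClosed (Y.residueField y) (f.fiberToSpecResidueField y))
      (RingHom.Finite.of_surjective _ (Scheme.ΓSpecIso (Y.residueField y)).symm.commRingCatIsoToRingEquiv.surjective)
  haveI : Nontrivial Γ(f.fiber y, ⊤) := (isField_of_universallyClosed (Y.residueField y) (f.fiberToSpecResidueField y)).nontrivial
  have hpos : 0 < Module.finrank (Y.residueField y) Γ(f.fiber y, ⊤) := Module.finrank_pos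
  exact bijective_of_finrank_eq_one (by omega)

end Groth.Agent.PicTrivLib
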