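import Groth.Agent.PicTrivLib.Univ
import Groth.Agent.PicTrivLib.Fiber

/-!
# Universally `f_* O = O`
-/

set_option autoImplicit false
set_option backward.isDefEq.respectTransparency false
set_option backward.defeqAttrib.useBackward true
set_option linter.style.haveILetI false

universe u

open CategoryTheory CategoryTheory.Limits AlgebraicGeometry TopologicalSpace Opposite
open Groth.Agent.CohBase Groth.Agent.ProjCoh Groth.Agent.FormalLib Groth.Agent.CubeLib

noncomputable section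

namespace Groth.Agent.PicTrivLib

variable {X Y : Scheme.{u}} (f : X ⟶ Y) [IsProper f] [Flat f] [IsLocallyNoetherian Y]

omit [IsProper f] [Flat f] [IsLocallyNoetherian Y] in
theorem bijective_app_of_secHom {X' T : Scheme.{u}} (h : X' ⟶ T) {W : T.Opens} (hW : IsAffineOpen W)
    (hb : Function.Bijective (BCLib.secHom (BCLib.restOver h hW) ⊤).hom) : Function.Bijective (h.app W) := by
  have e : ∀ a, (BCLib.secHom (BCLib.restOver h hW) ⊤).hom a = (h ⁻¹ᵁ W).topIso.inv.hom (h.app W a) := fun a => by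
    refine Eq.trans ?_ (RingHom.congr_fun (RpushLib.toGlobal_eq h hW) a)
    show (h ⁻¹ᵁ W).toScheme.presheaf.map (homOfLE le_top).op (Coh.toGlobal (BCLib.restOver h hW) a) = _
    exact ConcreteCategory.congr_hom ((h ⁻¹ᵁ W).toScheme.presheaf.map_id _) _
  have h2 : Function.Bijective ((h ⁻¹ᵁ W).topIso.inv.hom) := ConcreteCategory.bijective_of_isIso _
  rw [show ⇑(BCLib.secHom (BCLib.restOver h hW) ⊤).hom = ⇑((h ⁻¹ᵁ W).topIso.inv.hom) ∘ ⇑(h.app W) from funext e] at hb
  exact (Function.Bijective.of_comp_iff' h2 _).1 hb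

theorem exists_open_univ (y : Y) (hy : Function.Bijective (algebraMap (Y.residueField y) Γ(f.fiber y, ⊤))) :
    ∃ D : Y.Opens, y ∈ D ∧ ∀ (T : Scheme.{u}) (g : T ⟶ Y) (T₀ : T.Opens), IsAffineOpen T₀ → T₀ ≤ g ⁻¹ᵁ D →
      Function.Bijective ((pullback.snd f g).app T₀) := by
  obtain ⟨W, hW, hyW, -⟩ := BCLib.exists_affine_mem y
  let X₁ : Scheme.{u} := (f ⁻¹ᵁ W : Scheme.{u})
  letI : X₁.Over (Spec (CommRingCat.of Γ(Y, W))) := ⟨BCLib.restOver f hW⟩
  haveI : IsNoetherianRing Γ(Y, W) := IsLocallyNoetherian.component_noetherian ⟨W, hW⟩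
  haveI hpr : IsProper (BCLib.restOver f hW) := BCLib.isProper_restOver f hW
  haveI : IsProper (str Γ(Y, W) X₁) := hpr
  haveI hfl : Flat (BCLib.restOver f hW) := MorphismProperty.of_isPullback (BCLib.isPullback_restOver f hW) inferInstance
  haveI : Flat (str Γ(Y, W) X₁) := hfl
  let q := hW.primeIdealOf ⟨y, hyW⟩
  have hq : hW.fromSpec q = y := hW.fromSpec_primeIdealOf _
  have hne : ∃ z : X₁, BCLib.restOver f hW z = q := by
    haveI : Nontrivial Γ(f.fiber y, ⊤) := hy.1.nontrivial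
    obtain ⟨w⟩ : Nonempty (f.fiber y) := by
      by_contra h
      haveI : IsEmpty (f.fiber y) := not_nonempty_iff.1 h
      exact not_subsingleton Γ(f.fiber y, ⊤) inferInstance
    have hw := Set.mem_range_self (f := f.fiberι y) w
    rw [f.range_fiberι y] at hw
    refine ⟨⟨f.fiberι y w, show f (f.fiberι y w) ∈ W by rw [show f (f.fiberι y w) = y from hw]; exact hyW⟩, ?_⟩
    apply hW.fromSpec.isOpenEmbedding.injective
    rw [hq, ← Scheme.Hom.comp_apply, ← (BCLib.isPullback_restOver f hW).w, Scheme.Hom.comp_apply]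
    exact hw
  have hrk : CohIII.fiberRank (BCLib.restOver f hW) (Coh.structureModule X₁) 0 q = 1 := by
    haveI : Coh.IsQCoh (Coh.structureModule X) := (DevLib.isCoh_structureModule X).1
    rw [← BCLib.fiberRank_congr (BCLib.restOver f hW) (ProjCoh.pullUnit (f ⁻¹ᵁ W).ι) 0 q]
    refine (BCLib.fiberRank_restOver f hW (Coh.structureModule X) 0 q).trans ?_
    rw [hq]
    exact BCLib.finrank_fiberH_zero f y hy
  obtain ⟨r, hr, huniv⟩ := exists_away_univ (R := Γ(Y, W)) q hne hrk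
  refine ⟨Y.basicOpen r, ?_, fun T g T₀ hT₀ hle => ?_⟩
  · rw [← hq]
    show q ∈ hW.fromSpec ⁻¹ᵁ Y.basicOpen r
    rw [hW.fromSpec_preimage_basicOpen]
    exact hr
  let φ : Γ(Y, W) ⟶ Γ(T, T₀) := g.appLE W T₀ (hle.trans (g.preimage_mono (Y.basicOpen_le r)))
  have hu : IsUnit (φ.hom r) := by
    have h1 := (RingedSpace.isUnit_res_basicOpen Y.toRingedSpace r).map (g.appLE (Y.basicOpen r) T₀ hle).hom
    have h2 := congr($(Scheme.Hom.map_appLE g hle (homOfLE (Y.basicOpen_le r)).op).hom r)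
    exact h2 ▸ h1
  let h := pullback.snd f g
  let Z : Scheme.{u} := (h ⁻¹ᵁ T₀ : Scheme.{u})
  have sq := (BCLib.isPullback_restOver h hT₀).paste_horiz (IsPullback.of_hasPullback f g)
  have hg : hT₀.fromSpec ≫ g = Spec.map φ ≫ hW.fromSpec :=
    (IsAffineOpen.SpecMap_appLE_fromSpec g hW hT₀ _).symm
  rw [hg] at sq
  let k : Z ⟶ X₁ := (BCLib.isPullback_restOver f hW).lift ((h ⁻¹ᵁ T₀).ι ≫ pullback.fst f g)
    (BCLib.restOver h hT₀ ≫ Spec.map φ) (by rw [Category.assoc]; exact sq.w)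
  have hk : IsPullback k (BCLib.restOver h hT₀) (BCLib.restOver f hW) (Spec.map φ) := by
    refine IsPullback.of_right (h₁₂ := (f ⁻¹ᵁ W).ι) ?_ ((BCLib.isPullback_restOver f hW).lift_snd _ _ _)
      (BCLib.isPullback_restOver f hW)
    rw [IsPullback.lift_fst]
    exact sq
  exact bijective_app_of_secHom h hT₀ (huniv _ φ hu Z k (BCLib.restOver h hT₀) hk)

theorem isIso_app_univ (hk : ∀ y : Y, Function.Bijective (algebraMap (Y.residueField y) Γ(f.fiber y, ⊤)))
    (T : Scheme.{u}) (g : T ⟶ Y) (U : T.Opens) : IsIso ((pullback.snd f g).app U) := by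
  choose D hyD hD using fun y => exists_open_univ f y (hk y)
  let ι := {T₀ : T.Opens // IsAffineOpen T₀ ∧ ∃ y, T₀ ≤ g ⁻¹ᵁ D y}
  have hB : Opens.IsBasis (Set.range (Subtype.val : ι → T.Opens)) := by
    rw [Opens.isBasis_iff_nbhd]
    intro O t ht
    obtain ⟨_, ⟨T₀ : T.Opens, (hT₀ : IsAffineOpen T₀), rfl⟩, ht₀, hle⟩ :=
      T.isBasis_affineOpens.exists_subset_of_mem_open
        (show t ∈ ((O ⊓ g ⁻¹ᵁ D (g t) : T.Opens) : Set T) from ⟨ht, hyD (g t)⟩) (Opens.isOpen _)
    exact ⟨T₀, ⟨⟨T₀, hT₀, g t, fun z hz => (hle hz).2⟩, rfl⟩, ht₀, fun z hz => (hle hz).1⟩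
  let h := pullback.snd f g
  let ψ : T.sheaf ⟶ (TopCat.Sheaf.pushforward CommRingCat h.base).obj (pullback f g).sheaf := ⟨h.c⟩
  haveI hψ : IsIso ψ := TopCat.Sheaf.isIso_iff_isIso_basis hB fun i =>
    (ConcreteCategory.isIso_iff_bijective _).2 (by
      obtain ⟨T₀, hT₀, y, hle⟩ := i
      exact hD y T g T₀ hT₀ hle)
  haveI : IsIso ψ.hom := (ObjectProperty.ι _).map_isIso ψ
  exact NatIso.isIso_app_of_isIso ψ.hom (op U)

end Groth.Agent.PicTrivLib
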