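import Groth.Agent.CubeLib.Seesaw
import Groth.Agent.PicTrivLib.Const

/-!
# Direct images of fibrewise trivial invertible modules
-/

set_option autoImplicit false
set_option backward.isDefEq.respectTransparency false
set_option backward.defeqAttrib.useBackward true
set_option linter.style.haveILetI false

universe u

open CategoryTheory CategoryTheory.Limits MonoidalCategory AlgebraicGeometry TopologicalSpace Opposite
open Groth.Agent.CohBase Groth.Agent.ProjCoh Groth.Agent.FormalLib Groth.Agent.PullbackMod Groth.Agent.ParaFLib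
  Groth.Agent.AmpleLib Groth.Agent.CubeLib

noncomputable section

namespace Groth.Agent.PicTrivLib

variable {X Y : Scheme.{u}} (f : X ⟶ Y)

theorem gen_pushforward {P : X.Modules} {U : Y.Opens} {s : Γ(P, f ⁻¹ᵁ U)} (hs : Gen (f ⁻¹ᵁ U) s)
    (hU : ∀ V ≤ U, Function.Bijective (f.app V)) :
    Gen (L := (Scheme.Modules.pushforward f).obj P) U s := fun O hO =>
  (hs (f ⁻¹ᵁ O) (f.preimage_mono hO)).comp (hU O hO)

theorem counit_pullMap {P : X.Modules} {U : Y.Opens} (s : Γ(P, f ⁻¹ᵁ U)) {O : X.Opens} (e : O ≤ f ⁻¹ᵁ U) :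
    ((Scheme.Modules.pullbackPushforwardAdjunction f).counit.app P).app O
        (pullMap f ((Scheme.Modules.pushforward f).obj P) (W := U) e s) = P.presheaf.map (homOfLE e).op s := by
  let adj := Scheme.Modules.pullbackPushforwardAdjunction f
  let GP := (Scheme.Modules.pushforward f).obj P
  have h1 := congrArg (fun φ : GP ⟶ GP => φ.app U s) (adj.right_triangle_components P)
  let t : Γ((Scheme.Modules.pullback f).obj GP, f ⁻¹ᵁ U) := (adj.unit.app GP).app U s
  have h2 : (adj.counit.app P).app (f ⁻¹ᵁ U) t = s := h1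
  show (adj.counit.app P).app O (((Scheme.Modules.pullback f).obj GP).presheaf.map (homOfLE e).op t) = _
  have h3 := (adj.counit.app P).mapPresheaf.naturality (homOfLE e).op
  refine (congrArg (fun φ => φ.hom t) h3).trans ?_
  exact congrArg (P.presheaf.map (homOfLE e).op) h2

theorem push_main [IsProper f] [Flat f] [IsLocallyNoetherian Y] [IsReduced Y]
    (hk : ∀ y : Y, Function.Bijective (algebraMap (Y.residueField y) Γ(f.fiber y, ⊤))) {P : X.Modules}
    (hP : PicF.IsInvertible P)
    (h : ∀ y : Y, Nonempty ((Scheme.Modules.pullback (f.fiberι y)).obj P ≅ Coh.structureModule (f.fiber y))) :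
    PicF.IsInvertible ((Scheme.Modules.pushforward f).obj P) ∧
      IsIso ((Scheme.Modules.pullbackPushforwardAdjunction f).counit.app P) := by
  choose U₀ hy₀ s₀ hs₀ using exists_gen_nhd_of_fibres f hk hP fun y => triv_iff.2 (h y)
  choose U₁ hy₁ hU₁ using fun y => BCLib.exists_nhd_bijective_app f y (hk y)
  let U : Y → Y.Opens := fun y => U₀ y ⊓ U₁ y
  let s : ∀ y, Γ(P, f ⁻¹ᵁ U y) := fun y => P.presheaf.map (homOfLE (f.preimage_mono inf_le_left)).op (s₀ y)
  have hs : ∀ y, Gen (f ⁻¹ᵁ U y) (s y) := fun y => (hs₀ y).res (f.preimage_mono inf_le_left)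
  have hg : ∀ y, Gen (L := (Scheme.Modules.pushforward f).obj P) (U y) (s y) := fun y =>
    gen_pushforward f (hs y) fun V hV => hU₁ y V (hV.trans inf_le_right)
  have hinv : PicF.IsInvertible ((Scheme.Modules.pushforward f).obj P) :=
    isInvertible_of_gen fun y => ⟨U y, s y, ⟨hy₀ y, hy₁ y⟩, hg y⟩
  refine ⟨hinv, ParaFLib.isIso_of_locally_app _ fun x => ?_⟩
  refine ⟨f ⁻¹ᵁ U (f x), ⟨hy₀ (f x), hy₁ (f x)⟩, fun O hO => ?_⟩
  have hg' := gen_pullMap f hinv (hg (f x)) hO O le_rfl
  have hs' := hs (f x) O hO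
  have key : ∀ r : Γ(X, O), ((Scheme.Modules.pullbackPushforwardAdjunction f).counit.app P).app O
      (r • pullMap f ((Scheme.Modules.pushforward f).obj P) (W := U (f x)) hO (s (f x))) =
      r • P.presheaf.map (homOfLE hO).op (s (f x)) := fun r => by
    rw [Scheme.Modules.Hom.app_smul]
    congr 1
    exact counit_pullMap f _ hO
  simp only [ParaFLib.res_self] at hg'
  refine ⟨fun a b hab => ?_, fun c => ?_⟩
  · obtain ⟨r, rfl⟩ := hg'.2 a
    obtain ⟨r', rfl⟩ := hg'.2 b
    simp only [key] at hab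
    rw [hs'.1 hab]
  · obtain ⟨r, rfl⟩ := hs'.2 c
    exact ⟨_, key r⟩

end Groth.Agent.PicTrivLib
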