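import Groth.Agent.CubeLib.LocalTriv
import Groth.Agent.BCLib.Const
import Groth.Agent.BCLib.SteinFlat
import Groth.Agent.CubeLib.Artin
import Groth.Agent.BCLib.TrivNhd
import Groth.Agent.BCLib.Trunc
import Mathlib.RingTheory.Filtration

/-!
# Universally constant functions near a fibre with only constant functions
-/

set_option autoImplicit false
set_option backward.isDefEq.respectTransparency false
set_option backward.defeqAttrib.useBackward true
set_option linter.style.haveILetI false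

universe u

open CategoryTheory CategoryTheory.Limits AlgebraicGeometry TopologicalSpace Opposite TensorProduct
open Groth.Agent.CohBase Groth.Agent.ProjCoh Groth.Agent.FormalLib Groth.Agent.PullbackMod Groth.Agent.ParaFLib
  Groth.Agent.AmpleLib

noncomputable section

open Groth.Agent.CubeLib

namespace Groth.Agent.PicTrivLib

/-- Near a prime where `δ` has fibre kernel spanned by the cycle `x`, the kernel is universally free on `x`. -/
theorem exists_split {A Q P : Type u} [CommRing A] [IsNoetherianRing A] [AddCommGroup Q] [Module A Q]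
    [Module.Finite A Q] [Module.Flat A Q] [AddCommGroup P] [Module A P] [Module.Finite A P]
    [Module.Flat A P] (δ : Q →ₗ[A] P) (p : PrimeSpectrum A) (x : Q) (hx0 : δ x = 0)
    (hx : x ∉ p.asIdeal • (⊤ : Submodule A Q))
    (hk : FlatCx.kdim δ p.asIdeal.ResidueField = 1) :
    ∃ g : A, g ∉ p.asIdeal ∧ ∃ (φ : Q →ₗ[A] A) (r : P →ₗ[A] Q),
      (∀ z, g • z = φ z • x + r (δ z)) ∧ ∀ a : A, a • x = 0 → g * a = 0 := by
  haveI : Module.FinitePresentation A Q := Module.finitePresentation_of_finite A _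
  haveI : Module.Projective A Q := Module.Flat.projective_of_finitePresentation
  haveI : Module.FinitePresentation A P := Module.finitePresentation_of_finite A _
  haveI : Module.Projective A P := Module.Flat.projective_of_finitePresentation
  obtain ⟨hx1, φ, hφ⟩ := BCLib.tmul_residue_ne_zero p x hx
  let K := p.asIdeal.ResidueField
  let N := Submodule.span A {x}
  let δ' : (Q ⧸ N) →ₗ[A] P := N.liftQ δ (by rw [Submodule.span_le, Set.singleton_subset_iff]; exact hx0)
  have hxK : (1 : K) ⊗ₜ[A] x ≠ 0 := fun h => hx1 (by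
    have := congrArg (TensorProduct.comm A K Q) h
    rwa [TensorProduct.comm_tmul, map_zero] at this)
  have hk' : FlatCx.kdim δ' K = 0 := by
    show Module.finrank K (LinearMap.ker (δ'.baseChange K)) = 0
    haveI : Subsingleton (LinearMap.ker (δ'.baseChange K)) := by
      refine ⟨fun a b => ?_⟩
      suffices h0 : ∀ c : LinearMap.ker (δ'.baseChange K), c = 0 by rw [h0 a, h0 b]
      rintro ⟨w, hw⟩
      apply Subtype.ext
      have hsurj : Function.Surjective (N.mkQ.baseChange K) := by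
        rw [LinearMap.baseChange_eq_ltensor]
        exact LinearMap.lTensor_surjective K (Submodule.mkQ_surjective _)
      obtain ⟨v, rfl⟩ := hsurj w
      have hv : v ∈ LinearMap.ker (δ.baseChange K) := by
        rw [LinearMap.mem_ker] at hw ⊢
        rw [← LinearMap.comp_apply, ← LinearMap.baseChange_comp] at hw
        rwa [show δ' ∘ₗ N.mkQ = δ from Submodule.liftQ_mkQ _ _ _] at hw
      have hx' : (1 : K) ⊗ₜ[A] x ∈ LinearMap.ker (δ.baseChange K) := by
        rw [LinearMap.mem_ker, LinearMap.baseChange_tmul, hx0, tmul_zero]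
      obtain ⟨c, hc⟩ := (finrank_eq_one_iff_of_nonzero' (⟨_, hx'⟩ : LinearMap.ker (δ.baseChange K))
        (fun h => hxK (congrArg Subtype.val h))).1 hk ⟨v, hv⟩
      show N.mkQ.baseChange K v = 0
      rw [← show c • ((1 : K) ⊗ₜ[A] x) = v from congrArg Subtype.val hc, map_smul, LinearMap.baseChange_tmul,
        show N.mkQ x = 0 from (Submodule.Quotient.mk_eq_zero _).2 (Submodule.mem_span_singleton_self x),
        tmul_zero, smul_zero]
    exact Module.finrank_zero_of_subsingleton
  let R := Localization.AtPrime p.asIdeal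
  haveI : Module.Free R (R ⊗[A] P) := Module.free_of_flat_of_isLocalRing
  obtain ⟨l, hl⟩ := (IsLocalRing.split_injective_iff_lTensor_residueField_injective (δ'.baseChange R)).2
    (BCLib.lTensor_residueField_baseChange_injective δ' p hk')
  haveI : IsLocalizedModule p.asIdeal.primeCompl (TensorProduct.mk A R (Q ⧸ N) 1) :=
    (isLocalizedModule_iff_isBaseChange p.asIdeal.primeCompl R _).2 (TensorProduct.isBaseChange A (Q ⧸ N) R)
  obtain ⟨r₀, ⟨s, hs⟩, hr₀⟩ := Module.FinitePresentation.exists_lift_of_isLocalizedModule p.asIdeal.primeCompl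
    (TensorProduct.mk A R (Q ⧸ N) 1) ((l.restrictScalars A) ∘ₗ TensorProduct.mk A R P 1)
  obtain ⟨⟨t, ht⟩, hts⟩ := Module.Finite.exists_smul_of_comp_eq_of_isLocalizedModule p.asIdeal.primeCompl
    (TensorProduct.mk A R (Q ⧸ N) 1) (r₀ ∘ₗ δ') (s • LinearMap.id) (LinearMap.ext fun z => by
      have h1 := LinearMap.congr_fun hr₀ (δ' z)
      have h2 := LinearMap.congr_fun hl ((1 : R) ⊗ₜ[A] z)
      simp only [LinearMap.comp_apply, LinearMap.baseChange_tmul, LinearMap.id_apply, LinearMap.smul_apply,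
        LinearMap.restrictScalars_apply, TensorProduct.mk_apply, map_smul] at h1 h2 ⊢
      rw [h1, h2]
      rfl)
  obtain ⟨r₁, hr₁⟩ := Module.projective_lifting_property N.mkQ r₀ (Submodule.mkQ_surjective N)
  refine ⟨φ x * (t * s), fun h => (p.isPrime.mem_or_mem h).elim hφ fun h' => (p.isPrime.mem_or_mem h').elim ht hs,
    (t * s) • φ, (φ x * t) • r₁ - LinearMap.smulRight (t • φ ∘ₗ r₁) x, fun z => ?_, fun a ha => ?_⟩
  · obtain ⟨a, ha⟩ : ∃ a : A, a • x = (t * s) • z - t • r₁ (δ z) := by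
      apply Submodule.mem_span_singleton.1
      show _ ∈ N
      rw [← Submodule.Quotient.mk_eq_zero, ← Submodule.mkQ_apply, map_sub, map_smul, map_smul,
        show N.mkQ (r₁ (δ z)) = r₀ (δ z) from LinearMap.congr_fun hr₁ _, sub_eq_zero, mul_smul]
      exact (LinearMap.congr_fun hts (N.mkQ z)).symm
    have h2 := congrArg φ ha
    simp only [map_smul, map_sub, smul_eq_mul] at h2
    have h3 := congrArg (fun w => (φ x : A) • w) ha
    simp only [smul_smul, smul_sub, mul_comm (φ x) a, h2, sub_smul] at h3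
    simp only [LinearMap.sub_apply, LinearMap.smul_apply, LinearMap.smulRight_apply, LinearMap.comp_apply,
      smul_eq_mul, smul_smul]
    calc (φ x * (t * s)) • z = ((φ x * (t * s)) • z - (φ x * t) • r₁ (δ z)) + (φ x * t) • r₁ (δ z) := by abel
      _ = _ := by rw [← h3]; abel
  · have h1 := congrArg φ ha
    rw [map_smul, map_zero, smul_eq_mul] at h1
    rw [mul_assoc, mul_comm (t * s), ← mul_assoc, mul_comm (φ x), h1, zero_mul]

/-- Base change of the splitting: the kernel is free on `x`. -/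
theorem ker_baseChange {A B Q P : Type u} [CommRing A] [CommRing B] [Algebra A B] [AddCommGroup Q] [Module A Q]
    [AddCommGroup P] [Module A P] (δ : Q →ₗ[A] P) (x : Q) (g : A) (φ : Q →ₗ[A] A) (r : P →ₗ[A] Q)
    (hδx : δ x = 0) (h : ∀ z, g • z = φ z • x + r (δ z)) (hann : ∀ a : A, a • x = 0 → g * a = 0)
    (hg : IsUnit (algebraMap A B g)) :
    (∀ b : B, b ⊗ₜ[A] x = 0 → b = 0) ∧ ∀ w : B ⊗[A] Q, δ.baseChange B w = 0 → ∃ b : B, w = b ⊗ₜ[A] x := by
  refine ⟨fun b hb => ?_, fun w hw => ?_⟩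
  · have h1 := congrArg ((TensorProduct.rid A B).toLinearMap ∘ₗ φ.lTensor B) hb
    simp only [LinearMap.comp_apply, LinearMap.lTensor_tmul, map_zero, LinearEquiv.coe_coe, TensorProduct.rid_tmul] at h1
    have h2 : (φ x - g) • x = 0 := by
      have := h x
      rw [hδx, map_zero, add_zero] at this
      rw [sub_smul, this, sub_self]
    have h3 : algebraMap A B g * (algebraMap A B (φ x) - algebraMap A B g) = 0 := by
      rw [← map_sub, ← map_mul, hann _ h2, map_zero]
    rw [hg.mul_right_eq_zero, sub_eq_zero] at h3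
    rw [Algebra.smul_def, h3, hg.mul_right_eq_zero] at h1
    exact h1
  · have key : ∀ w : B ⊗[A] Q, g • w = ((TensorProduct.rid A B) (φ.lTensor B w)) ⊗ₜ[A] x + r.baseChange B (δ.baseChange B w) := by
      intro w
      induction w using TensorProduct.induction_on with
      | zero => simp
      | tmul b z =>
        rw [← tmul_smul, h, tmul_add, tmul_smul, smul_tmul']
        simp
      | add u v hu hv => simp only [smul_add, map_add, hu, hv, add_tmul]; abel
    obtain ⟨u, hu⟩ := hg
    refine ⟨(↑u⁻¹ : B) * TensorProduct.rid A B (φ.lTensor B w), ?_⟩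
    have h4 := key w
    rw [hw, map_zero, add_zero, ← algebraMap_smul B g w, ← hu] at h4
    rw [← smul_eq_mul, ← smul_tmul', ← h4, smul_smul, Units.inv_mul, one_smul]

/-- Near a fibre with only constant functions, functions are universally constant. -/
theorem exists_away_univ {R : CommRingCat.{u}} [IsNoetherianRing R] {X : Scheme.{u}}
    [X.Over (Spec (CommRingCat.of R))] [IsProper (str R X)] [Flat (str R X)] (p : Spec R)
    (hne : ∃ z : X, str R X z = p)
    (hrk : CohIII.fiberRank (str R X) (Coh.structureModule X) 0 p = 1) :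
    ∃ g : R, g ∉ p.asIdeal ∧ ∀ (B : CommRingCat.{u}) (φ : R ⟶ B), IsUnit (φ.hom g) →
      ∀ (X' : Scheme.{u}) (g' : X' ⟶ X) (fB : X' ⟶ Spec B), IsPullback g' fB (str R X) (Spec.map φ) →
        Function.Bijective (BCLib.secHom fB ⊤).hom := by
  let F := Coh.structureModule X
  haveI : IsLocallyNoetherian X := LocallyOfFiniteType.isLocallyNoetherian (str R X)
  haveI : Coh.IsQCoh F := (DevLib.isCoh_structureModule X).1
  have hFi : PicF.IsInvertible F := ParaFLib.isInvertible_structureModule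
  obtain ⟨ι, hι, V, hcov, haff, L, ψ, hfin, hflat, -, -, hψ⟩ := BCLib.exists_cover_bij (A := R)
    (F := F) (DevLib.isCoh_structureModule X) (BCLib.isFlatOver_structureModule (str R X))
  haveI := hfin 0; haveI := hfin 1; haveI := hflat 0; haveI := hflat 1
  let e₀ : ∀ m, (BCLib.cechCx R V F).X m ≃ₗ[R] Coch (str R X) F V m :=
    fun m => BCLib.cochEquiv V (BCLib.tensorASelfIso R F) m
  have he₀ : ∀ m y, dL (str R X) F V m (e₀ m y) = e₀ (m + 1) ((BCLib.cechCx R V F).d m y) := fun m y =>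
    dL_cochMap V _ m y
  let one : Γ(F, ⊤) := (1 : Γ(X, ⊤))
  let k₁ : Coch (str R X) F V 0 := aug V (Coh.toAb F).obj (fun _ => le_top) one
  have hk₁ : dL (str R X) F V 0 k₁ = 0 := (dL_eq _ _ _ _ _).trans (cdiff_aug _ _ _)
  obtain ⟨xR, hxR, hxR'⟩ := (ψ.bijBC R (hψ R) 0).1 ((1 : R) ⊗ₜ[R] (e₀ 0).symm k₁) (LinearMap.mem_ker.2 (by
    rw [LinearMap.baseChange_tmul, show (BCLib.cechCx R V F).d 0 ((e₀ 0).symm k₁) = 0 from (e₀ 1).injective (by
      rw [← he₀ 0, LinearEquiv.apply_symm_apply, hk₁, map_zero]), tmul_zero]))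
  obtain ⟨x, rfl⟩ := TensorProduct.mk_surjective R (L.X 0) R Function.surjective_id xR
  have hdx : L.d 0 x = 0 := by
    have := congrArg (TensorProduct.lid R _) (LinearMap.mem_ker.1 hxR)
    simpa using this
  have hψx : e₀ 0 (ψ.f 0 x) = k₁ := by
    have h1 := congrArg (TensorProduct.lid R _) (sub_eq_zero.1 ((Submodule.mem_bot R).1 hxR'))
    simp at h1
    rw [← h1, LinearEquiv.apply_symm_apply]
  let Q := L.X 0 ⧸ L.bd 0
  haveI : Module.Flat R Q := L.flat_quot_zero (hflat 0)
  have hxm : x ∉ p.asIdeal • (⊤ : Submodule R (L.X 0)) := by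
    intro hx
    have h1 := Submodule.mem_map_of_mem (f := (e₀ 0).toLinearMap ∘ₗ ψ.f 0) hx
    rw [Submodule.map_smul'', LinearMap.comp_apply, LinearEquiv.coe_coe, hψx] at h1
    have h1' : k₁ ∈ p.asIdeal • (⊤ : Submodule R (Coch (str R X) F V 0)) := Submodule.smul_mono le_rfl le_top h1
    obtain ⟨z, hz⟩ := hne
    obtain ⟨a₀, ha₀⟩ := Opens.mem_iSup.1 (hcov (show z ∈ (⊤ : X.Opens) from trivial))
    let i : Fin 1 → ι := fun _ => a₀
    have hzi : z ∈ inter V i := (le_iInf fun _ => le_rfl : V a₀ ≤ inter V i) ha₀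
    have hm : ∀ c ∈ p.asIdeal • (⊤ : Submodule R (Coch (str R X) F V 0)),
        X.presheaf.germ (inter V i) z hzi (c i) ∈ IsLocalRing.maximalIdeal (X.presheaf.stalk z) := fun c hc => by
      refine Submodule.smul_induction_on hc (fun r hr c _ => ?_) (fun c c' hc hc' => ?_)
      · show X.presheaf.germ (inter V i) z hzi ((BCLib.secHom (str R X) (inter V i)).hom r * (show Γ(X, inter V i) from c i)) ∈ _
        rw [map_mul]
        exact Ideal.mul_mem_right _ _ (germ_secHom_mem_maximalIdeal (str R X) hzi (hz.symm ▸ hr))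
      · show X.presheaf.germ (inter V i) z hzi ((show Γ(X, inter V i) from c i) + (show Γ(X, inter V i) from c' i)) ∈ _
        rw [map_add]
        exact Ideal.add_mem _ hc hc'
    have h2 := hm k₁ h1'
    have h3 : (show Γ(X, inter V i) from k₁ i) = 1 := map_one (X.presheaf.map (homOfLE (le_top : inter V i ≤ ⊤)).op).hom
    rw [show (k₁ i : Γ(F, inter V i)) = (1 : Γ(X, inter V i)) from h3, map_one] at h2
    exact (IsLocalRing.maximalIdeal.isMaximal _).ne_top ((Ideal.eq_top_iff_one _).2 h2)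
  have hbd : L.bd 0 = ⊥ := rfl
  have hδx : L.δ 0 ((L.bd 0).mkQ x) = 0 := hdx
  have hxm' : (L.bd 0).mkQ x ∉ p.asIdeal • (⊤ : Submodule R Q) := fun h => hxm (by
    let ev : Q ≃ₗ[R] L.X 0 := Submodule.quotEquivOfEqBot (L.bd 0) hbd
    have := Submodule.mem_map_of_mem (f := ev.toLinearMap) h
    rw [Submodule.map_smul'', Submodule.map_top, LinearEquiv.range] at this
    exact this)
  have hk : FlatCx.kdim (L.δ 0) p.asIdeal.ResidueField = 1 :=
    (BCLib.fiberRank_eq_kdim_aux (R := R) V F hcov haff ψ hψ hfin 0 p).1.symm.trans hrk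
  obtain ⟨g, hg, φQ, rQ, hsplit, hann⟩ := exists_split (L.δ 0) p ((L.bd 0).mkQ x) hδx hxm' hk
  let ev : Q ≃ₗ[R] L.X 0 := Submodule.quotEquivOfEqBot (L.bd 0) hbd
  have hev : ∀ z, ev ((L.bd 0).mkQ z) = z := fun z => rfl
  refine ⟨g, hg, fun B φ hgu X' g' fB hc => ?_⟩
  letI : X'.Over (Spec (CommRingCat.of B)) := ⟨fB⟩
  letI := φ.hom.toAlgebra
  obtain ⟨hker1, hker2⟩ := ker_baseChange (B := B) (L.d 0) x g (φQ ∘ₗ (L.bd 0).mkQ) (ev.toLinearMap ∘ₗ rQ) hdx
    (fun z => by
      have := congrArg ev (hsplit ((L.bd 0).mkQ z))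
      rw [map_smul, map_add, map_smul, hev, hev] at this
      exact this)
    (fun a ha => hann a (by rw [← map_smul, ha, map_zero])) hgu
  let G' := (Scheme.Modules.pullback g').obj F
  let V' := ProperFin.preCov g' V
  letI := Module.compHom (Coch (str B X') G' V' 0) φ.hom
  haveI : IsScalarTower R B (Coch (str B X') G' V' 0) := .of_algebraMap_smul fun _ _ => rfl
  letI := Module.compHom (Coch (str B X') G' V' 1) φ.hom
  haveI : IsScalarTower R B (Coch (str B X') G' V' 1) := .of_algebraMap_smul fun _ _ => rfl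
  let Θ₀ := (e₀ 0).baseChange R B ≪≫ₗ (BCLib.isBaseChange_pullCoch g' φ hc V F haff 0).equiv
  let Θ₁ := (e₀ 1).baseChange R B ≪≫ₗ (BCLib.isBaseChange_pullCoch g' φ hc V F haff 1).equiv
  have hΘ : ∀ z, dL (str B X') G' V' 0 (Θ₀ z) = Θ₁ (((BCLib.cechCx R V F).d 0).baseChange B z) := fun z => by
    induction z using TensorProduct.induction_on with
    | zero => simp only [map_zero]
    | tmul b c =>
      simp only [Θ₀, Θ₁, LinearEquiv.trans_apply, LinearMap.baseChange_tmul, LinearEquiv.baseChange_tmul]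
      refine (congrArg _ (IsBaseChange.equiv_tmul (BCLib.isBaseChange_pullCoch g' φ hc V F haff 0) b (e₀ 0 c))).trans ?_
      refine Eq.trans ?_ (IsBaseChange.equiv_tmul (BCLib.isBaseChange_pullCoch g' φ hc V F haff 1) b _).symm
      exact (map_smul (dL (str B X') G' V' 0) b _).trans
        (congrArg (b • ·) ((BCLib.dL_pullCoch g' φ hc V F 0 _).trans (congrArg _ (he₀ 0 c))))
    | add a b ha hb => simp only [map_add, ha, hb]
  let one' : Γ(G', ⊤) := pullMap g' F (le_top : (⊤ : X'.Opens) ≤ g' ⁻¹ᵁ ⊤) one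
  have hgen : Gen ⊤ one' := gen_pullMap g' hFi (W := ⊤) (s := one) (gen_one ⊤) le_top
  let c : B → Coch (str B X') G' V' 0 := fun b =>
    aug V' (Coh.toAb G').obj (fun _ => le_top) ((BCLib.secHom fB ⊤).hom b • one')
  have hcov' : (⊤ : X'.Opens) ≤ iSup V' := fun z _ => by
    obtain ⟨a, ha⟩ := Opens.mem_iSup.1 (hcov (show g' z ∈ (⊤ : X.Opens) from trivial))
    exact Opens.mem_iSup.2 ⟨a, ha⟩
  have hc1 : ∀ b, c b = Θ₀ (b ⊗ₜ[R] ψ.f 0 x) := fun b => by
    simp only [Θ₀, LinearEquiv.trans_apply, LinearEquiv.baseChange_tmul, hψx]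
    refine Eq.trans ?_ (IsBaseChange.equiv_tmul (BCLib.isBaseChange_pullCoch g' φ hc V F haff 0) b k₁).symm
    funext i
    show G'.presheaf.map (homOfLE (le_top : inter V' i ≤ ⊤)).op ((BCLib.secHom fB ⊤).hom b • one') =
      (BCLib.secHom fB (inter V' i)).hom b • pullMap g' F (ProperFin.inter_preCov g' V i).ge (k₁ i)
    rw [Scheme.Modules.map_smul]
    congr 1
    · exact rs_secHom (f := fB) (le_top : inter V' i ≤ ⊤) b
    · exact pullMap_res g' F (le_top : (⊤ : X'.Opens) ≤ g' ⁻¹ᵁ ⊤) (le_top : inter V i ≤ ⊤) le_top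
        (ProperFin.inter_preCov g' V i).ge one
  have hsurj : ∀ b : B, c b = 0 → b = 0 := fun b hb => by
    rw [hc1, map_eq_zero_iff _ Θ₀.injective] at hb
    refine hker1 b ((Submodule.mem_bot B).1 (((ψ.bijBC B (hψ B) 0).2 (b ⊗ₜ[R] x) (LinearMap.mem_ker.2 (by
      rw [LinearMap.baseChange_tmul, hdx, tmul_zero]))).1 ?_))
    rw [LinearMap.baseChange_tmul, hb]
    exact Submodule.zero_mem _
  refine ⟨fun a b hab => ?_, fun τ => ?_⟩
  · refine sub_eq_zero.1 (hsurj (a - b) ?_)
    show aug V' _ _ ((BCLib.secHom fB ⊤).hom (a - b) • one') = 0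
    rw [map_sub, hab, sub_self, zero_smul, map_zero]
  · let c' : Coch (str B X') G' V' 0 := aug V' (Coh.toAb G').obj (fun _ => le_top) (τ • one')
    have hc' : dL (str B X') G' V' 0 c' = 0 := (dL_eq _ _ _ _ _).trans (cdiff_aug _ _ _)
    have hzB : Θ₀.symm c' ∈ (BCLib.cechCx R V F).zBC B 0 := LinearMap.mem_ker.2 (Θ₁.injective
      ((hΘ _).symm.trans ((congrArg _ (Θ₀.apply_symm_apply c')).trans (hc'.trans (map_zero _).symm))))
    obtain ⟨zL, hzL, hzL'⟩ := (ψ.bijBC B (hψ B) 0).1 _ hzB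
    have hzL'' : (ψ.f 0).baseChange B zL = Θ₀.symm c' := (sub_eq_zero.1 ((Submodule.mem_bot B).1 hzL')).symm
    obtain ⟨b, rfl⟩ := hker2 zL (LinearMap.mem_ker.1 hzL)
    rw [LinearMap.baseChange_tmul, LinearEquiv.eq_symm_apply, ← hc1] at hzL''
    refine ⟨b, (hgen ⊤ le_rfl).1 ?_⟩
    simp only [ParaFLib.res_self]
    refine TopCat.Sheaf.eq_of_locally_eq' (⟨G'.presheaf, G'.isSheaf⟩ : TopCat.Sheaf Ab.{u} X'.carrier)
      (fun a : ι => inter V' (fun _ : Fin 1 => a)) ⊤ (fun _ => homOfLE le_top) (fun z hz => ?_) _ _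
      (fun a => congrFun hzL'' fun _ => a)
    obtain ⟨a, ha⟩ := Opens.mem_iSup.1 (hcov' hz)
    exact Opens.mem_iSup.2 ⟨a, (le_iInf fun _ => le_rfl : V' a ≤ inter V' fun _ => a) ha⟩

end Groth.Agent.PicTrivLib
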